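import Groth.Agent.AbsApprox.AmpleLim
import Groth.Agent.TMul.RelAmpleOps
import Groth.Agent.LimDesc.Tower

/-!
Relative ampleness over a cartesian square, and its descent to a stage of a limit.
-/

set_option autoImplicit false
set_option backward.isDefEq.respectTransparency false
set_option backward.isDefEq.respectTransparency.types false

universe u

open CategoryTheory CategoryTheory.Limits AlgebraicGeometry TopologicalSpace Groth.Agent

noncomputable section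

namespace Groth.Agent.AmpleStage

variable {X Y Z X' : Scheme.{u}} {L : X.Modules}

/-- The restriction of an inverse image as an inverse image. -/
def restrictPullIso (q : X' ⟶ X) (U : X'.Opens) {T : Scheme.{u}} (a : (U : Scheme.{u}) ⟶ T) (b : T ⟶ X)
    (h : a ≫ b = U.ι ≫ q) (L : X.Modules) :
    (Scheme.Modules.pullback a).obj ((Scheme.Modules.pullback b).obj L) ≅
      ((Scheme.Modules.pullback q).obj L).restrict U.ι :=
  (Scheme.Modules.pullbackComp _ _).app L ≪≫ (Scheme.Modules.pullbackCongr h).app L ≪≫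
    ((Scheme.Modules.pullbackComp _ _).app L).symm ≪≫
    ((Scheme.Modules.restrictFunctorIsoPullback U.ι).app _).symm

/-- Relative ampleness is stable under any cartesian base change. -/
theorem isRelAmple_of_isPullback {f : X ⟶ Y} {g : Z ⟶ Y} {p : X' ⟶ X} {q : X' ⟶ Z} [QuasiCompact f]
    (hsq : IsPullback p q f g) (h : RelAmple.IsRelAmple f L) :
    RelAmple.IsRelAmple q ((Scheme.Modules.pullback p).obj L) := by
  have : QuasiCompact q := MorphismProperty.of_isPullback (P := @QuasiCompact) hsq ‹_›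
  refine TMul.isRelAmple_of_exists (PicLoc.isInvertible_pullback _ (TMul.isInvertible_of_isRelAmple h))
    fun z => ?_
  obtain ⟨W, hW, hzW, -⟩ := exists_isAffineOpen_mem_and_subset (x := g.base z) (U := ⊤) trivial
  obtain ⟨V, hV, hzV, hVW⟩ := exists_isAffineOpen_mem_and_subset (x := z) (U := g ⁻¹ᵁ W) hzW
  refine ⟨V, hzV, ?_⟩
  have hle : q ⁻¹ᵁ V ≤ p ⁻¹ᵁ (f ⁻¹ᵁ W) := fun x hx => by
    have h1 : g.base (q.base x) ∈ W := hVW hx
    change (p ≫ f).base x ∈ W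
    rw [hsq.w]
    exact h1
  let i : ((q ⁻¹ᵁ V : X'.Opens) : Scheme.{u}) ⟶ (f ⁻¹ᵁ W : X.Opens) :=
    IsOpenImmersion.lift (f ⁻¹ᵁ W).ι ((q ⁻¹ᵁ V).ι ≫ p) (by
      rw [Scheme.Opens.range_ι]
      rintro _ ⟨x, rfl⟩
      exact hle x.2)
  have hi : i ≫ (f ⁻¹ᵁ W).ι = (q ⁻¹ᵁ V).ι ≫ p := IsOpenImmersion.lift_fac _ _ _
  have : IsAffineHom i := by
    have : IsAffine V.toScheme := hV
    have : IsAffine W.toScheme := hW
    let φ : (V : Scheme.{u}) ⟶ W := g.resLE W V hVW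
    have hsq' : IsPullback i (q ∣_ V) (f ∣_ W) φ := by
      refine IsPullback.of_right (t := (isPullback_morphismRestrict f W).flip) ?_ ?_
      · rw [hi, show φ ≫ W.ι = V.ι ≫ g from Scheme.Hom.resLE_comp_ι _ _]
        exact (isPullback_morphismRestrict q V).flip.paste_horiz hsq
      · rw [← cancel_mono W.ι, Category.assoc, Category.assoc, morphismRestrict_ι, reassoc_of% hi,
          show φ ≫ W.ι = V.ι ≫ g from Scheme.Hom.resLE_comp_ι _ _, morphismRestrict_ι_assoc,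
          hsq.w]
    exact MorphismProperty.of_isPullback hsq'.flip (isAffineHom_of_isAffine φ)
  exact TMul.isAmple_congr (restrictPullIso p _ i (f ⁻¹ᵁ W).ι hi L)
    (TMul.isAmple_congr ((Scheme.Modules.pullback i).mapIso
      ((Scheme.Modules.restrictFunctorIsoPullback _).app L))
      (TMul.isAmple_pullback_of_isAffineHom i (h.2 ⟨W, hW⟩)))

variable {I : Type u} [SmallCategory I] [IsCofiltered I] (D : I ⥤ Scheme.{u})
  [∀ {i j} (f : i ⟶ j), IsAffineHom (D.map f)] (c : Cone D) (hc : IsLimit c) {i₀ : I}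
  {X₀ Y₀ : Scheme.{u}} (f₀ : X₀ ⟶ Y₀) (g₀ : Y₀ ⟶ D.obj i₀)
  {Xl Yl : Scheme.{u}} {f : Xl ⟶ Yl} {g : Yl ⟶ c.pt} {qY : Yl ⟶ Y₀} {qX : Xl ⟶ X₀}
  (hY : IsPullback qY g g₀ (c.π.app i₀)) (hX : IsPullback qX f f₀ qY)
  {L₀ : X₀.Modules} (hL₀ : PicF.IsInvertible L₀)

include hc hY hX hL₀ in
/-- Relative ampleness over the limit descends to a stage. -/
theorem exists_isRelAmple_stage [CompactSpace Y₀] [QuasiCompact f₀] [QuasiSeparated f₀]
    (h : RelAmple.IsRelAmple f ((Scheme.Modules.pullback qX).obj L₀)) :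
    ∃ (l : Over i₀) (Xj Yj : Scheme.{u}) (fj : Xj ⟶ Yj) (gj : Yj ⟶ D.obj l.left) (pY : Yj ⟶ Y₀)
      (pX : Xj ⟶ X₀), IsPullback pY gj g₀ (D.map l.hom) ∧ IsPullback pX fj f₀ pY ∧
        RelAmple.IsRelAmple fj ((Scheme.Modules.pullback pX).obj L₀) := by
  classical
  have hXS : IsPullback qX (f ≫ g) (f₀ ≫ g₀) (c.π.app i₀) := hX.paste_vert hY
  have hcπ : IsAffineHom (c.π.app i₀) := isAffineHom_π_app D c hc i₀
  have hqY : IsAffineHom qY := MorphismProperty.of_isPullback (P := @IsAffineHom) hY.flip hcπ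
  -- one piece
  have piece : ∀ W : Y₀.affineOpens, ∃ j : Over i₀, CohB1.IsAmple ((Scheme.Modules.pullback
      (LimDesc.toBase D ((f₀ ⁻¹ᵁ W.1).ι ≫ f₀ ≫ g₀) j)).obj
        ((Scheme.Modules.pullback (f₀ ⁻¹ᵁ W.1).ι).obj L₀)) := by
    intro W
    let P := f₀ ⁻¹ᵁ W.1
    let p₀ : (P : Scheme.{u}) ⟶ D.obj i₀ := P.ι ≫ f₀ ≫ g₀
    let P' := qX ⁻¹ᵁ P
    have hP : IsPullback (qX ∣_ P) (P'.ι ≫ f ≫ g) p₀ (c.π.app i₀) :=
      (isPullback_morphismRestrict qX P).paste_vert hXS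
    have : IsAffine W.1.toScheme := W.2
    have : CompactSpace (P : Scheme.{u}) :=
      isCompact_iff_compactSpace.mp (f₀.isCompact_preimage W.2.isCompact)
    have : QuasiSeparatedSpace (P : Scheme.{u}) :=
      quasiSeparatedSpace_of_quasiSeparated (f₀ ∣_ W.1)
    have : ∀ {j k : Over i₀} (a : j ⟶ k), IsAffineHom ((LimDesc.tower D p₀).map a) :=
      fun a => LimDesc.isAffineHom_tower_map D p₀ a
    have : ∀ j, CompactSpace ((LimDesc.tower D p₀).obj j) := LimDesc.compactSpace_stage D p₀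
    have : ∀ j, QuasiSeparatedSpace ((LimDesc.tower D p₀).obj j) :=
      LimDesc.quasiSeparatedSpace_stage D p₀
    let j₀ : Over i₀ := Over.mk (𝟙 i₀)
    let L₁ := (Scheme.Modules.pullback (LimDesc.toBase D p₀ j₀)).obj
      ((Scheme.Modules.pullback P.ι).obj L₀)
    have hL₁ : PicF.IsInvertible L₁ :=
      PicLoc.isInvertible_pullback _ (PicLoc.isInvertible_pullback _ hL₀)
    have hamp : CohB1.IsAmple ((Scheme.Modules.pullback
        ((LimDesc.towerCone D p₀ c hP).π.app j₀)).obj L₁) := by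
      have hV : IsAffineOpen (qY ⁻¹ᵁ W.1) := W.2.preimage qY
      have hPV : P' = f ⁻¹ᵁ (qY ⁻¹ᵁ W.1) := by
        simp only [P', P, ← Scheme.Hom.comp_preimage, hX.w]
      have key : ∀ U : Xl.Opens, U = f ⁻¹ᵁ (qY ⁻¹ᵁ W.1) →
          CohB1.IsAmple (((Scheme.Modules.pullback qX).obj L₀).restrict U.ι) := by
        rintro U rfl
        exact h.2 ⟨qY ⁻¹ᵁ W.1, hV⟩
      have h1 := key P' hPV
      have e1 : (qX ∣_ P) ≫ P.ι = P'.ι ≫ qX := morphismRestrict_ι _ _
      refine TMul.isAmple_congr ?_ h1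
      exact (restrictPullIso qX P' (qX ∣_ P) P.ι e1 L₀).symm ≪≫
        ((ModDesc.trIso (LimDesc.proj D p₀ c hP j₀) (LimDesc.toBase D p₀ j₀)
          (LimDesc.proj_toBase D p₀ c hP j₀)).app _).symm
    obtain ⟨j, φ, hj⟩ := AbsApprox.exists_isAmple_stage (LimDesc.tower D p₀)
      (LimDesc.towerCone D p₀ c hP) (LimDesc.isLimitTowerCone D p₀ c hP hc) hL₁ hamp
    exact ⟨j, TMul.isAmple_congr ((ModDesc.trIso (LimDesc.trans D p₀ φ) (LimDesc.toBase D p₀ j₀)
      (LimDesc.trans_toBase D p₀ φ)).app _) hj⟩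
  choose j hj using piece
  have hV : ∀ y : Y₀, ∃ W : Y₀.affineOpens, y ∈ W.1 := fun y => by
    obtain ⟨V, hV, hxV, -⟩ := exists_isAffineOpen_mem_and_subset (x := y) (U := ⊤) trivial
    exact ⟨⟨V, hV⟩, hxV⟩
  choose W hyW using hV
  obtain ⟨T, hT⟩ := isCompact_univ.elim_finite_subcover (fun y : Y₀ => ((W y).1 : Set Y₀))
    (fun y => (W y).1.2) fun y _ => Set.mem_iUnion.mpr ⟨y, hyW y⟩
  obtain ⟨l, hl⟩ := IsCofiltered.inf_objs_exists (T.image fun y => j (W y))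
  let fl := LimDesc.stageMap D g₀ f₀ l
  let pX := LimDesc.toBase D (f₀ ≫ g₀) l
  let pY := LimDesc.toBase D g₀ l
  have hXl : IsPullback pX fl f₀ pY := LimDesc.isPullback_stageMap D g₀ f₀ l
  have hYl := LimDesc.isPullback_stage D g₀ l
  have : IsAffineHom pY := LimDesc.isAffineHom_toBase D g₀ l
  have : QuasiCompact fl := MorphismProperty.of_isPullback (P := @QuasiCompact) hXl ‹_›
  refine ⟨l, _, _, fl, _, pY, pX, hYl, hXl,
    TMul.isRelAmple_of_exists (PicLoc.isInvertible_pullback _ hL₀) fun z => ?_⟩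
  obtain ⟨y, hy, hzy⟩ := Set.mem_iUnion₂.mp (hT (Set.mem_univ (pY.base z)))
  let a : l ⟶ j (W y) := (hl (Finset.mem_image_of_mem _ hy)).some
  let P := f₀ ⁻¹ᵁ (W y).1
  let Q := fl ⁻¹ᵁ (pY ⁻¹ᵁ (W y).1)
  refine ⟨pY ⁻¹ᵁ (W y).1, hzy, ?_⟩
  have hQP : Q = pX ⁻¹ᵁ P := by simp only [Q, P, ← Scheme.Hom.comp_preimage, hXl.w]
  suffices key : CohB1.IsAmple (((Scheme.Modules.pullback pX).obj L₀).restrict (pX ⁻¹ᵁ P).ι) by
    show CohB1.IsAmple (((Scheme.Modules.pullback pX).obj L₀).restrict Q.ι)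
    revert key
    generalize pX ⁻¹ᵁ P = U at hQP
    subst hQP
    exact id
  let p₀ : (P : Scheme.{u}) ⟶ D.obj i₀ := P.ι ≫ f₀ ≫ g₀
  let Q' := pX ⁻¹ᵁ P
  have hQl : IsPullback (pX ∣_ P) (Q'.ι ≫ LimDesc.toStage D (f₀ ≫ g₀) l) p₀ (D.map l.hom) :=
    (isPullback_morphismRestrict pX P).paste_vert (LimDesc.isPullback_stage D (f₀ ≫ g₀) l)
  let u : (Q' : Scheme.{u}) ⟶ LimDesc.stage D p₀ (j (W y)) :=
    pullback.lift (pX ∣_ P) ((Q'.ι ≫ LimDesc.toStage D (f₀ ≫ g₀) l) ≫ D.map a.left)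
      (by rw [Category.assoc, ← D.map_comp, Over.w a]; exact hQl.w)
  have hu : u ≫ LimDesc.toBase D p₀ (j (W y)) = pX ∣_ P := pullback.lift_fst _ _ _
  have hus : u ≫ LimDesc.toStage D p₀ (j (W y)) =
      (Q'.ι ≫ LimDesc.toStage D (f₀ ≫ g₀) l) ≫ D.map a.left := pullback.lift_snd _ _ _
  have : IsAffineHom u := by
    refine MorphismProperty.of_isPullback (P := @IsAffineHom) (IsPullback.of_right ?_ hus
      (LimDesc.isPullback_stage D p₀ (j (W y)))).flip (inferInstanceAs (IsAffineHom (D.map a.left)))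
    rw [hu, ← D.map_comp, Over.w a]
    exact hQl
  exact TMul.isAmple_congr ((Scheme.Modules.pullbackComp _ _).app _ ≪≫
      (Scheme.Modules.pullbackCongr hu).app _ ≪≫
      restrictPullIso pX Q' (pX ∣_ P) P.ι (morphismRestrict_ι _ _) L₀)
    (TMul.isAmple_pullback_of_isAffineHom u (hj (W y)))

end Groth.Agent.AmpleStage
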