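import Groth.Agent.AmpleStage.Basic
import Groth.Agent.TMul.SecGen

/-!
Generation relative to a morphism descends to a stage of a limit.
-/

set_option autoImplicit false
set_option backward.isDefEq.respectTransparency false
set_option backward.isDefEq.respectTransparency.types false

universe u

open CategoryTheory CategoryTheory.Limits AlgebraicGeometry TopologicalSpace Groth.Agent

noncomputable section

namespace Groth.Agent.AmpleStage

/-- Sections generating at every point. -/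
def GenBySec {X : Scheme.{u}} (L : X.Modules) : Prop :=
  ∀ x : X, ∃ s : Coh.structureModule X ⟶ L, x ∈ CohB1.genLocus L s

theorem GenBySec.congr {X : Scheme.{u}} {L L' : X.Modules} (e : L ≅ L') (h : GenBySec L) :
    GenBySec L' := fun x => by
  obtain ⟨s, hs⟩ := h x
  exact ⟨s ≫ e.hom, by rw [TMul.genLocus_comp]; exact hs⟩

theorem GenBySec.pullback {X X' : Scheme.{u}} {L : X.Modules} (q : X' ⟶ X)
    (hL : PicF.IsInvertible L) (h : GenBySec L) : GenBySec ((Scheme.Modules.pullback q).obj L) :=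
  fun x => by
    obtain ⟨s, hs⟩ := h (q.base x)
    refine ⟨(PicLoc.pullbackStructureIso q).symm.hom ≫ (Scheme.Modules.pullback q).map s, ?_⟩
    rw [TMul.genLocus_pullback q hL s (PicLoc.pullbackStructureIso q).symm]
    exact hs

section Stage

variable {I : Type u} [SmallCategory I] [IsCofiltered I] (D : I ⥤ Scheme.{u})
  [∀ {i j} (f : i ⟶ j), IsAffineHom (D.map f)] [∀ i, CompactSpace (D.obj i)]
  [∀ i, QuasiSeparatedSpace (D.obj i)] (c : Cone D) (hc : IsLimit c)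
  {i₀ : I} {H : (D.obj i₀).Modules} (hH : PicF.IsInvertible H)

include hc hH in
/-- Generation by sections descends to a stage. -/
theorem exists_genBySec_stage (h : GenBySec ((Scheme.Modules.pullback (c.π.app i₀)).obj H)) :
    ∃ (i : I) (φ : i ⟶ i₀), GenBySec ((Scheme.Modules.pullback (D.map φ)).obj H) := by
  classical
  haveI : Coh.IsQCoh H := TMul.isQCoh_of_isInvertible hH
  haveI : Coh.IsQCoh (Coh.structureModule (D.obj i₀)) := QC.isQCoh_unit _
  haveI : CompactSpace c.pt := by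
    haveI := isAffineHom_π_app D c hc i₀
    exact QuasiCompact.compactSpace_of_compactSpace (c.π.app i₀)
  have hsec : ∀ s : Coh.structureModule c.pt ⟶ (Scheme.Modules.pullback (c.π.app i₀)).obj H,
      ∃ (j : I) (φ : j ⟶ i₀) (σ : Coh.structureModule (D.obj j) ⟶
        (Scheme.Modules.pullback (D.map φ)).obj H),
        c.π.app j ⁻¹ᵁ CohB1.genLocus _ σ = CohB1.genLocus _ s := by
    intro s
    obtain ⟨j, φ, hj, hhj⟩ := ModDesc.exists_bc_eq_hom D c hc H (SchDense.isFP_unit (D.obj i₀))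
      ((PicLoc.pullbackStructureIso (c.π.app i₀)).hom ≫ s)
    let σ : Coh.structureModule (D.obj j) ⟶ (Scheme.Modules.pullback (D.map φ)).obj H :=
      (PicLoc.pullbackStructureIso (D.map φ)).inv ≫ hj
    refine ⟨j, φ, σ, ?_⟩
    rw [← TMul.genLocus_pullback (c.π.app j) (PicLoc.isInvertible_pullback (D.map φ) hH) σ
      (PicLoc.pullbackStructureIso (c.π.app j)).symm]
    have hs' : s = ((PicLoc.pullbackStructureIso (c.π.app i₀)).inv ≫
        ((ModDesc.trIso (c.π.app j) (D.map φ) (c.w φ)).app _).inv) ≫ (Scheme.Modules.pullback (c.π.app j)).map hj ≫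
        ((ModDesc.trIso (c.π.app j) (D.map φ) (c.w φ)).app H).hom := by
      have := hhj
      simp only [ModDesc.bc] at this
      rw [Category.assoc, this]
      simp
    conv_rhs => rw [hs', AbsApprox.genLocus_comp_iso _ ((PicLoc.pullbackStructureIso (c.π.app j)).symm.hom ≫
      (Scheme.Modules.pullback (c.π.app j)).map (PicLoc.pullbackStructureIso (D.map φ)).inv)]
    simp only [σ, Functor.map_comp, Category.assoc]
  choose s hs using h
  choose j φ σ hσ using fun y => hsec (s y)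
  obtain ⟨T, hT⟩ := (isCompact_univ (X := c.pt)).elim_finite_subcover
    (fun x => SetLike.coe (CohB1.genLocus _ (s x))) (fun x => (CohB1.genLocus _ (s x)).2)
    fun x _ => Set.mem_iUnion.2 ⟨x, hs x⟩
  obtain ⟨k, mk⟩ := IsCofiltered.inf_objs_exists (insert i₀ (T.image j))
  have hk₀ : k ⟶ i₀ := (mk (Finset.mem_insert_self _ _)).some
  have hkj : ∀ x : T, k ⟶ j x.1 := fun x =>
    (mk (Finset.mem_insert_of_mem (Finset.mem_image_of_mem j x.2))).some
  obtain ⟨l, al, hl⟩ : ∃ (l : I) (a : l ⟶ k), ∀ x : T, a ≫ hkj x ≫ φ x.1 = a ≫ hk₀ := by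
    obtain ⟨l, mkl, hl⟩ := IsCofiltered.inf_exists (insert i₀ (insert k ∅))
      ((Finset.univ : Finset T).image (fun x => (⟨k, i₀, by simp, by simp, hkj x ≫ φ x.1⟩ :
        (Σ' (X Y : I) (_ : X ∈ insert i₀ (insert k (∅ : Finset I))) (_ : Y ∈ insert i₀ (insert k (∅ : Finset I))), X ⟶ Y))) ∪
        {⟨k, i₀, by simp, by simp, hk₀⟩})
    refine ⟨l, mkl (show k ∈ insert i₀ (insert k (∅ : Finset I)) by simp), fun x => ?_⟩
    rw [hl (f := hkj x ≫ φ x.1) (by simp) (by simp) (by simp), hl (f := hk₀) (by simp) (by simp) (by simp)]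
  let U : T → (D.obj l).Opens := fun x => D.map (al ≫ hkj x) ⁻¹ᵁ CohB1.genLocus _ (σ x.1)
  have hcov : c.π.app l ⁻¹ᵁ iSup U = ⊤ := by
    refine top_le_iff.1 fun y _ => ?_
    obtain ⟨x, hx, hy⟩ := Set.mem_iUnion₂.1 (hT (Set.mem_univ y))
    rw [← hσ x] at hy
    rw [Scheme.Hom.preimage_iSup]
    refine Opens.mem_iSup.2 ⟨⟨x, hx⟩, ?_⟩
    simp only [U, ← Scheme.Hom.comp_preimage, c.w]
    exact hy
  obtain ⟨i, e, he⟩ := exists_map_eq_top D c hc (iSup U) hcov
  refine ⟨i, e ≫ al ≫ hk₀, fun y => ?_⟩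
  obtain ⟨x, hx⟩ := Opens.mem_iSup.1 (he.ge (Set.mem_univ y) : D.map e y ∈ iSup U)
  let g := D.map (e ≫ al ≫ hkj x)
  have hw : g ≫ D.map (φ x.1) = D.map (e ≫ al ≫ hk₀) := by
    rw [← D.map_comp, Category.assoc, Category.assoc, hl x]
  refine ⟨((PicLoc.pullbackStructureIso g).symm.hom ≫ (Scheme.Modules.pullback g).map (σ x.1)) ≫
    ((ModDesc.trIso g (D.map (φ x.1)) hw).app H).hom, ?_⟩
  rw [TMul.genLocus_comp, TMul.genLocus_pullback g (PicLoc.isInvertible_pullback _ hH)]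
  simp only [U, ← Scheme.Hom.comp_preimage] at hx
  show g y ∈ CohB1.genLocus _ (σ x.1)
  rw [show g = D.map e ≫ D.map (al ≫ hkj x) from D.map_comp _ _]
  exact hx

end Stage

/-- Sections generating at every point of an open give local generation over it. -/
theorem secGen_of_genBySec {X : Scheme.{u}} {N : X.Modules} (Q : X.Opens)
    (h : GenBySec (N.restrict Q.ι)) : TMul.SecGen N Q := by
  intro x hx U t hxU
  obtain ⟨s, hs⟩ := h ⟨x, hx⟩
  obtain ⟨W, hxW, hW⟩ := (TMul.mem_genLocus_iff s).mp hs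
  have hg := (TMul.isGen_restrict_iff Q.ι s W).mp hW
  have h1 : Q.ι ''ᵁ W ⊓ U ≤ Q := inf_le_left.trans (Q.ι_image_le W)
  refine ⟨Q.ι ''ᵁ W ⊓ U, inf_le_right, h1, ⟨⟨⟨x, hx⟩, hxW, rfl⟩, hxU⟩, ?_⟩
  obtain ⟨d, hd⟩ := (hg (Q.ι ''ᵁ W ⊓ U) inf_le_left).2 (QC.res N inf_le_right t)
  have htop : Q ≤ Q.ι ''ᵁ ⊤ := Q.ι_image_top.ge
  rw [← hd]
  refine Submodule.smul_mem _ _ (Submodule.subset_span
    ⟨QC.res N htop (TMul.val s ⊤ : Γ(N, Q.ι ''ᵁ ⊤)), ?_⟩)
  rw [QC.res_res, QC.res_res]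

variable {I : Type u} [SmallCategory I] [IsCofiltered I] (D : I ⥤ Scheme.{u})
  [∀ {i j} (f : i ⟶ j), IsAffineHom (D.map f)] (c : Cone D) (hc : IsLimit c) {i₀ : I}
  {X₀ Y₀ : Scheme.{u}} (f₀ : X₀ ⟶ Y₀) (g₀ : Y₀ ⟶ D.obj i₀)
  {Xl Yl : Scheme.{u}} {f : Xl ⟶ Yl} {g : Yl ⟶ c.pt} {qY : Yl ⟶ Y₀} {qX : Xl ⟶ X₀}
  (hY : IsPullback qY g g₀ (c.π.app i₀)) (hX : IsPullback qX f f₀ qY)
  {L₀ : X₀.Modules} (hL₀ : PicF.IsInvertible L₀)

include hc hY hX hL₀ in
/-- An epimorphic counit over the limit gives epimorphic counits at all late stages. -/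
theorem exists_epi_counit_stage [CompactSpace Y₀] [QuasiCompact f₀] [QuasiSeparated f₀]
    (h : Epi ((Scheme.Modules.pullbackPushforwardAdjunction f).counit.app
      ((Scheme.Modules.pullback qX).obj L₀))) :
    ∃ l : Over i₀, ∀ (k : I) (ψ : k ⟶ l.left) (Xk Yk : Scheme.{u}) (fk : Xk ⟶ Yk)
      (gk : Yk ⟶ D.obj k) (pY : Yk ⟶ Y₀) (pX : Xk ⟶ X₀),
      IsPullback pY gk g₀ (D.map (ψ ≫ l.hom)) → IsPullback pX fk f₀ pY →
        Epi ((Scheme.Modules.pullbackPushforwardAdjunction fk).counit.app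
          ((Scheme.Modules.pullback pX).obj L₀)) := by
  classical
  have hXS : IsPullback qX (f ≫ g) (f₀ ≫ g₀) (c.π.app i₀) := hX.paste_vert hY
  have hcπ : IsAffineHom (c.π.app i₀) := isAffineHom_π_app D c hc i₀
  have hqY : IsAffineHom qY := MorphismProperty.of_isPullback (P := @IsAffineHom) hY.flip hcπ
  haveI : QuasiCompact f := MorphismProperty.of_isPullback (P := @QuasiCompact) hX ‹_›
  haveI : QuasiSeparated f := MorphismProperty.of_isPullback (P := @QuasiSeparated) hX ‹_›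
  have piece : ∀ W : Y₀.affineOpens, ∃ j : Over i₀, GenBySec ((Scheme.Modules.pullback
      (LimDesc.toBase D ((f₀ ⁻¹ᵁ W.1).ι ≫ f₀ ≫ g₀) j)).obj
        ((Scheme.Modules.pullback (f₀ ⁻¹ᵁ W.1).ι).obj L₀)) := by
    intro W
    let P := f₀ ⁻¹ᵁ W.1
    let p₀ : (P : Scheme.{u}) ⟶ D.obj i₀ := P.ι ≫ f₀ ≫ g₀
    let P' := qX ⁻¹ᵁ P
    have hP : IsPullback (qX ∣_ P) (P'.ι ≫ f ≫ g) p₀ (c.π.app i₀) :=
      (isPullback_morphismRestrict qX P).paste_vert hXS
    have : IsAffine W.1.toScheme := W.2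
    have : CompactSpace (P : Scheme.{u}) :=
      isCompact_iff_compactSpace.mp (f₀.isCompact_preimage W.2.isCompact)
    have : QuasiSeparatedSpace (P : Scheme.{u}) :=
      quasiSeparatedSpace_of_quasiSeparated (f₀ ∣_ W.1)
    have : ∀ {j k : Over i₀} (a : j ⟶ k), IsAffineHom ((LimDesc.tower D p₀).map a) :=
      fun a => LimDesc.isAffineHom_tower_map D p₀ a
    have : ∀ j, CompactSpace ((LimDesc.tower D p₀).obj j) := LimDesc.compactSpace_stage D p₀
    have : ∀ j, QuasiSeparatedSpace ((LimDesc.tower D p₀).obj j) :=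
      LimDesc.quasiSeparatedSpace_stage D p₀
    let j₀ : Over i₀ := Over.mk (𝟙 i₀)
    let L₁ := (Scheme.Modules.pullback (LimDesc.toBase D p₀ j₀)).obj
      ((Scheme.Modules.pullback P.ι).obj L₀)
    have hL₁ : PicF.IsInvertible L₁ :=
      PicLoc.isInvertible_pullback _ (PicLoc.isInvertible_pullback _ hL₀)
    have hgen : GenBySec ((Scheme.Modules.pullback
        ((LimDesc.towerCone D p₀ c hP).π.app j₀)).obj L₁) := by
      have hV : IsAffineOpen (qY ⁻¹ᵁ W.1) := W.2.preimage qY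
      have hPV : P' = f ⁻¹ᵁ (qY ⁻¹ᵁ W.1) := by
        simp only [P', P, ← Scheme.Hom.comp_preimage, hX.w]
      have key : ∀ U : Xl.Opens, U = f ⁻¹ᵁ (qY ⁻¹ᵁ W.1) →
          GenBySec (((Scheme.Modules.pullback qX).obj L₀).restrict U.ι) := by
        rintro U rfl z
        exact TMul.exists_genLocus_of_epi_counit f (PicLoc.isInvertible_pullback _ hL₀) h
          ⟨qY ⁻¹ᵁ W.1, hV⟩ z.1 z.2
      refine GenBySec.congr ?_ (key P' hPV)
      exact (restrictPullIso qX P' (qX ∣_ P) P.ι (morphismRestrict_ι _ _) L₀).symm ≪≫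
        ((ModDesc.trIso (LimDesc.proj D p₀ c hP j₀) (LimDesc.toBase D p₀ j₀)
          (LimDesc.proj_toBase D p₀ c hP j₀)).app _).symm
    obtain ⟨j, φ, hj⟩ := exists_genBySec_stage (LimDesc.tower D p₀)
      (LimDesc.towerCone D p₀ c hP) (LimDesc.isLimitTowerCone D p₀ c hP hc) hL₁ hgen
    exact ⟨j, GenBySec.congr ((ModDesc.trIso (LimDesc.trans D p₀ φ) (LimDesc.toBase D p₀ j₀)
      (LimDesc.trans_toBase D p₀ φ)).app _) hj⟩
  choose j hj using piece
  have hV : ∀ y : Y₀, ∃ W : Y₀.affineOpens, y ∈ W.1 := fun y => by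
    obtain ⟨V, hV, hxV, -⟩ := exists_isAffineOpen_mem_and_subset (x := y) (U := ⊤) trivial
    exact ⟨⟨V, hV⟩, hxV⟩
  choose W hyW using hV
  obtain ⟨T, hT⟩ := isCompact_univ.elim_finite_subcover (fun y : Y₀ => ((W y).1 : Set Y₀))
    (fun y => (W y).1.2) fun y _ => Set.mem_iUnion.mpr ⟨y, hyW y⟩
  obtain ⟨l, hl⟩ := IsCofiltered.inf_objs_exists (T.image fun y => j (W y))
  refine ⟨l, fun k ψ Xk Yk fk gk pY pX hYk hXk => TMul.epi_counit_of_secGen fk fun z => ?_⟩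
  obtain ⟨y, hy, hzy⟩ := Set.mem_iUnion₂.mp (hT (Set.mem_univ (pY.base (fk.base z))))
  let a : l ⟶ j (W y) := (hl (Finset.mem_image_of_mem _ hy)).some
  let P := f₀ ⁻¹ᵁ (W y).1
  have hQP : fk ⁻¹ᵁ (pY ⁻¹ᵁ (W y).1) = pX ⁻¹ᵁ P := by
    simp only [P, ← Scheme.Hom.comp_preimage, hXk.w]
  refine ⟨pY ⁻¹ᵁ (W y).1, hzy, ?_⟩
  rw [hQP]
  refine secGen_of_genBySec _ ?_
  let p₀ : (P : Scheme.{u}) ⟶ D.obj i₀ := P.ι ≫ f₀ ≫ g₀
  let u : ((pX ⁻¹ᵁ P : Xk.Opens) : Scheme.{u}) ⟶ LimDesc.stage D p₀ (j (W y)) :=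
    pullback.lift (pX ∣_ P) ((pX ⁻¹ᵁ P).ι ≫ fk ≫ gk ≫ D.map (ψ ≫ a.left)) (by
      simp only [p₀, Category.assoc, ← D.map_comp, morphismRestrict_ι_assoc]
      rw [Over.w a, ← hYk.w, reassoc_of% hXk.w])
  have hu : u ≫ LimDesc.toBase D p₀ (j (W y)) = pX ∣_ P := pullback.lift_fst _ _ _
  exact GenBySec.congr ((Scheme.Modules.pullbackComp _ _).app _ ≪≫
      (Scheme.Modules.pullbackCongr hu).app _ ≪≫
      restrictPullIso pX (pX ⁻¹ᵁ P) (pX ∣_ P) P.ι (morphismRestrict_ι _ _) L₀)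
    (GenBySec.pullback u (PicLoc.isInvertible_pullback _ (PicLoc.isInvertible_pullback _ hL₀)) (hj (W y)))

end Groth.Agent.AmpleStage
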